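import Cfsg.Agent.SchurCert.Gen

set_option autoImplicit false
set_option maxRecDepth 100000

/-!
The bound three on a kernel of three-power order.
-/

namespace CfsgLib.G23Mult

open Cfsg CfsgLib.Schur CfsgLib.SchurCert
open CfsgLib.M23Coh (Pres Step wordE)
open scoped commutatorElement

universe u v

variable {G : Type u} [Group G] {Γ : Type v} [Group Γ]

/-- Three times the form vanishes modulo nine, given the equations. -/
def checkNine (c : GCert) (nine : List (ℕ × ℕ)) : Bool :=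
  nine.all (fun a => Nat.blt a.1 c.eqs.length) && (List.range c.rels.length).all fun k =>
    Nat.beq (((nine.map fun a => a.2 * c.eqCoef 9 a.1 k).sum + 3 * c.phiC k) % 9) 0

/-- A central extension cut down to a cyclic kernel. -/
theorem prime_cover_quot {σ : Γ →* G} (hσ : Cfsg.IsStemExtension σ) (N : Subgroup Γ) [N.Normal]
    (hN : N ≤ σ.ker) {y : Γ} (hy : y ∈ σ.ker) (hgen : σ.ker ≤ N ⊔ Subgroup.zpowers y) {m : ℕ}
    (hm : orderOf (QuotientGroup.mk' N y) = m) :
    PrimeCover (QuotientGroup.lift N σ hN) (QuotientGroup.mk' N y) m := by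
  refine ⟨fun g => ?_, fun u hu => ?_, hm, le_antisymm (fun u hu => ?_) (Subgroup.zpowers_le.2 hy)⟩
  · obtain ⟨w, rfl⟩ := hσ.1 g
    exact ⟨QuotientGroup.mk' N w, rfl⟩
  · obtain ⟨w, rfl⟩ := QuotientGroup.mk'_surjective N u
    refine Subgroup.mem_center_iff.mpr fun v => ?_
    obtain ⟨t, rfl⟩ := QuotientGroup.mk'_surjective N v
    rw [← map_mul, ← map_mul, Subgroup.mem_center_iff.mp (hσ.2.1 (show w ∈ σ.ker from hu)) t]
  · obtain ⟨w, rfl⟩ := QuotientGroup.mk'_surjective N u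
    have hw := Subgroup.mem_map_of_mem (QuotientGroup.mk' N) (hgen (show w ∈ σ.ker from hu))
    rw [Subgroup.map_sup, MonoidHom.map_zpowers] at hw
    rwa [show Subgroup.map (QuotientGroup.mk' N) N = ⊥ from
      (Subgroup.map_eq_bot_iff N).2 (le_of_eq (QuotientGroup.ker_mk' N).symm), bot_sup_eq] at hw

/-- The form is natural. -/
theorem map_form {Δ : Type*} [Group Δ] (c : GCert) (f : Γ →* Δ) (L : ℕ → Γ) :
    f (c.phiElt L) = c.phiElt fun i => f (L i) := by
  rw [GCert.phiElt, map_list_prod, List.map_map, GCert.phiElt]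
  refine congrArg List.prod (List.map_congr_left fun k _ => ?_)
  rw [Function.comp_apply, map_pow, c.map_rlt]

/-- A kernel of prime-power order is generated by the form. -/
theorem ker_le_zpowers [Finite Γ] [Finite G] {c : GCert} {gel : ℕ → G} (hc : c.Core gel) {σ : Γ →* G}
    (hσ : Cfsg.IsStemExtension σ) (hodd : ∀ q, q.Prime → q ∣ Nat.card σ.ker → q = c.p)
    {L : ℕ → Γ} (hL : ∀ i, σ (L i) = gel i) :
    c.phiElt L ∈ σ.ker ∧ σ.ker ≤ Subgroup.zpowers (c.phiElt L) := by
  classical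
  obtain ⟨hs, hcen, hst⟩ := id hσ
  set z := c.phiElt L with hz
  have hzk : z ∈ σ.ker := by
    refine list_prod_mem fun y hy => ?_
    obtain ⟨k, -, rfl⟩ := List.mem_map.1 hy
    exact pow_mem (c.rlt_mem hc.rels hL k) _
  haveI := Fact.mk hc.prime
  have hcomm : ∀ a b : σ.ker, a * b = b * a := fun a b =>
    Subtype.ext (Subgroup.mem_center_iff.mp (hcen b.2) a)
  letI : CommGroup σ.ker := { (inferInstance : Group σ.ker) with mul_comm := hcomm }
  let pw : σ.ker →* σ.ker := powMonoidHom c.p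
  set B : Subgroup σ.ker := Subgroup.zpowers ⟨z, hzk⟩ ⊔ pw.range with hB
  have hBtop : B = ⊤ := by
    by_contra hne
    obtain ⟨K0, hK0, hle⟩ := (eq_top_or_exists_le_coatom B).resolve_left hne
    set N : Subgroup Γ := K0.map σ.ker.subtype
    have hN : N ≤ σ.ker := Subgroup.map_subtype_le _
    haveI : N.Normal := ⟨fun t ht g => by
      rwa [show g * t * g⁻¹ = t by rw [Subgroup.mem_center_iff.mp (hcen (hN ht)) g, mul_inv_cancel_right]]⟩
    obtain ⟨y, hy⟩ : ∃ y : σ.ker, y ∉ K0 := by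
      by_contra hcon
      push Not at hcon
      exact hK0.1 (eq_top_iff.mpr fun t _ => hcon t)
    have hgen : σ.ker ≤ N ⊔ Subgroup.zpowers (y : Γ) := by
      intro t ht
      have htop : K0 ⊔ Subgroup.zpowers y = ⊤ :=
        hK0.2 _ (lt_of_le_of_ne le_sup_left fun h1 =>
          hy (h1 ▸ Subgroup.mem_sup_right (Subgroup.mem_zpowers y)))
      have h := Subgroup.mem_map_of_mem σ.ker.subtype (htop ▸ Subgroup.mem_top (⟨t, ht⟩ : σ.ker) :
        (⟨t, ht⟩ : σ.ker) ∈ K0 ⊔ Subgroup.zpowers y)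
      rwa [Subgroup.map_sup, MonoidHom.map_zpowers] at h
    have hyN : QuotientGroup.mk' N (y : Γ) ≠ 1 := fun h => by
      obtain ⟨t, ht, e⟩ := (QuotientGroup.eq_one_iff _).1 h
      exact hy (Subtype.coe_injective e ▸ ht)
    have hyp : QuotientGroup.mk' N (y : Γ) ^ c.p = 1 := by
      rw [← map_pow]
      exact (QuotientGroup.eq_one_iff _).2 ⟨y ^ c.p, hle (Subgroup.mem_sup_right ⟨y, rfl⟩), rfl⟩
    have hcov := prime_cover_quot hσ N hN y.2 hgen (orderOf_eq_prime hyp hyN)
    have hmem : QuotientGroup.mk' N (y : Γ) ∈ commutator (Γ ⧸ N) := by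
      have h1 : (commutator Γ).map (QuotientGroup.mk' N) ≤ commutator (Γ ⧸ N) := by
        rw [commutator_def, commutator_def, Subgroup.map_commutator]
        exact Subgroup.commutator_mono le_top le_top
      exact h1 ⟨y, hst y.2, rfl⟩
    haveI : NeZero c.p := ⟨hc.prime.ne_zero⟩
    have hLN : ∀ i, QuotientGroup.lift N σ hN (QuotientGroup.mk' N (L i)) = gel i := hL
    choose x hx using fun k => cE_surj (m := c.p) hcov (c.rlt_mem hc.rels hLN k)
    refine hc.split hcov hmem hLN x hx (cE_inj hcov ?_)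
    rw [← c.map_phiElt hcov _ x hx, ← map_form c]
    exact (QuotientGroup.eq_one_iff _).2
      ⟨⟨z, hzk⟩, hle (Subgroup.mem_sup_left (Subgroup.mem_zpowers _)), rfl⟩
  -- the kernel is generated by the form
  set R := (Nat.card σ.ker).primeFactorsList.length
  have hcard : Nat.card σ.ker = c.p ^ R :=
    Nat.eq_prime_pow_of_unique_prime_dvd Nat.card_pos.ne' fun hq hd => hodd _ hq hd
  have hit : ∀ (r : ℕ) (y : σ.ker), ∃ (i : ℤ) (t : σ.ker), y = (⟨z, hzk⟩ : σ.ker) ^ i * t ^ c.p ^ r := by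
    intro r
    induction r with
    | zero => intro y; exact ⟨0, y, by simp⟩
    | succ r ih =>
      intro y
      obtain ⟨i, t, rfl⟩ := ih y
      obtain ⟨_, ⟨j, rfl⟩, _, ⟨w, rfl⟩, e⟩ :=
        Subgroup.mem_sup.1 (hBtop ▸ Subgroup.mem_top t : t ∈ B)
      refine ⟨i + j * (c.p ^ r : ℕ), w, ?_⟩
      rw [← e, mul_pow, show pw w = w ^ c.p from rfl, ← pow_mul, ← pow_succ', zpow_add, zpow_mul,
        zpow_natCast, mul_assoc]
  have hgenz : σ.ker ≤ Subgroup.zpowers z := by
    intro y hy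
    obtain ⟨i, t, e⟩ := hit R ⟨y, hy⟩
    rw [show t ^ c.p ^ R = 1 by rw [← hcard]; exact pow_card_eq_one', mul_one] at e
    exact ⟨i, (congrArg Subtype.val e).symm⟩
  exact ⟨hzk, hgenz⟩

/-- With the form zero a kernel of prime-power order is trivial. -/
theorem ker_eq_bot_of_phiZero [Finite Γ] [Finite G] {c : GCert} {gel : ℕ → G} (hc : c.Core gel)
    (h0 : c.phiZero = true) {σ : Γ →* G}
    (hσ : Cfsg.IsStemExtension σ) (hodd : ∀ q, q.Prime → q ∣ Nat.card σ.ker → q = c.p) : σ.ker = ⊥ := by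
  choose L hL using fun i => hσ.1 (gel i)
  obtain ⟨-, h⟩ := ker_le_zpowers hc hσ hodd hL
  have h1 : c.phiElt L = 1 := by
    refine List.prod_eq_one fun y hy => ?_
    obtain ⟨k, hk, rfl⟩ := List.mem_map.1 hy
    simp only [GCert.phiZero, List.all_eq_true, Nat.beq_eq] at h0
    rw [h0 k hk, pow_zero]
  rw [h1, Subgroup.zpowers_one_eq_bot] at h
  exact eq_bot_iff.2 h

/-- A kernel of three-power order has order dividing three. -/
theorem card_ker_dvd_three [Finite Γ] [Finite G] {c : GCert} {gel : ℕ → G} (hc : c.Core gel)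
    (hp3 : c.p = 3) {nine : List (ℕ × ℕ)} (h4 : checkNine c nine = true) {σ : Γ →* G}
    (hσ : Cfsg.IsStemExtension σ) (hodd : ∀ q, q.Prime → q ∣ Nat.card σ.ker → q = 3) :
    Nat.card σ.ker ∣ 3 := by
  classical
  choose L hL using fun i => hσ.1 (gel i)
  obtain ⟨hzk, hgenz⟩ := ker_le_zpowers hc hσ (fun q hq hd => (hodd q hq hd).trans hp3.symm) hL
  set z := c.phiElt L with hz
  suffices hz3 : z ^ 3 = 1 by
    refine (Subgroup.card_dvd_of_le hgenz).trans ?_
    rw [Nat.card_zpowers]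
    exact orderOf_dvd_of_pow_eq_one hz3
  set R := (Nat.card σ.ker).primeFactorsList.length
  have hcard : Nat.card σ.ker = 3 ^ R :=
    Nat.eq_prime_pow_of_unique_prime_dvd Nat.card_pos.ne' fun hq hd => hodd _ hq hd
  by_contra hz3
  -- a quotient with cyclic kernel of order nine
  have hord : ∃ R', orderOf z = 3 ^ (R' + 2) := by
    have hd : orderOf (⟨z, hzk⟩ : σ.ker) ∣ 3 ^ R := hcard ▸ orderOf_dvd_natCard _
    rw [Subgroup.orderOf_mk] at hd
    obtain ⟨a, -, ha⟩ := (Nat.dvd_prime_pow Nat.prime_three).1 hd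
    rcases Nat.lt_or_ge a 2 with h | h
    · refine absurd (orderOf_dvd_iff_pow_eq_one.1 ?_) hz3
      rw [ha]
      exact (pow_dvd_pow 3 (show a ≤ 1 by omega)).trans (by norm_num)
    · exact ⟨a - 2, by rw [ha, Nat.sub_add_cancel h]⟩
  obtain ⟨R', hR'⟩ := hord
  set N : Subgroup Γ := Subgroup.zpowers (z ^ 9)
  have hN : N ≤ σ.ker := Subgroup.zpowers_le.2 (pow_mem hzk 9)
  haveI : N.Normal := ⟨fun t ht g => by
    rwa [show g * t * g⁻¹ = t by rw [Subgroup.mem_center_iff.mp (hσ.2.1 (hN ht)) g, mul_inv_cancel_right]]⟩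
  have hm9 : orderOf (QuotientGroup.mk' N z) = 9 := by
    refine orderOf_eq_prime_pow (p := 3) (n := 1) ?_ ?_
    · rw [← map_pow]
      intro h
      obtain ⟨i, hi⟩ := Subgroup.mem_zpowers_iff.1 ((QuotientGroup.eq_one_iff _).1 h)
      rw [← zpow_natCast, ← zpow_mul, ← zpow_natCast, zpow_eq_zpow_iff_modEq, hR', Int.modEq_iff_dvd] at hi
      have h9 : (9 : ℤ) ∣ ((3 ^ (R' + 2) : ℕ) : ℤ) := ⟨3 ^ R', by push_cast; ring⟩
      have := h9.trans hi
      omega
    · rw [← map_pow]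
      exact (QuotientGroup.eq_one_iff _).2 (Subgroup.mem_zpowers _)
  have hcov := prime_cover_quot hσ N hN hzk (le_sup_of_le_right hgenz) hm9
  haveI : NeZero (9 : ℕ) := ⟨by norm_num⟩
  have hLN : ∀ i, QuotientGroup.lift N σ hN (QuotientGroup.mk' N (L i)) = gel i := hL
  choose x hx using fun k => cE_surj (m := 9) hcov (c.rlt_mem hc.rels hLN k)
  have h1 : evl 9 c.rels.length x c.phiC = 1 := by
    rw [← sub_eq_zero]
    refine cE_inj hcov ?_
    rw [sub_eq_add_neg, cE_add hcov, cE_neg hcov, ← c.map_phiElt hcov _ x hx, ← map_form c,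
      show (1 : ZMod 9) = ((1 : ℕ) : ZMod 9) from Nat.cast_one.symm, cE_natCast hcov, pow_one,
      mul_inv_cancel]
  simp only [checkNine, Bool.and_eq_true, List.all_eq_true, Nat.blt_eq, List.mem_range, Nat.beq_eq] at h4
  have h0 : evl 9 c.rels.length x
      (fun k => (nine.map fun a => a.2 * c.eqCoef 9 a.1 k).sum + 3 * c.phiC k) = 0 := by
    refine Finset.sum_eq_zero fun k hk => ?_
    rw [← ZMod.natCast_mod, h4.2 k (Finset.mem_range.1 hk), Nat.cast_zero, zero_mul]
  rw [evl_add, evl_smul, evl_sum_eqs hcov c hc.eqs _ x hx nine h4.1, h1] at h0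
  exact absurd h0 (by decide)

end CfsgLib.G23Mult
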