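import Cfsg.Agent.G23Mult.Tables

set_option autoImplicit false

/-!
Arithmetic of seven by seven matrices over three elements packed into numerals, six bits an entry.
-/

namespace CfsgLib.G23Mult

/-- Six bits at a position. -/
def dig (n k : ℕ) : ℕ := (n >>> (6 * k)) &&& 63

/-- A row. -/
def rowN (n i : ℕ) : ℕ := (n >>> (42 * i)) &&& 4398046511103

/-- A combination of rows. -/
def combRow (g h i : ℕ) : ℕ :=
  dig g (7 * i) * rowN h 0 + dig g (7 * i + 1) * rowN h 1 + dig g (7 * i + 2) * rowN h 2 +
    dig g (7 * i + 3) * rowN h 3 + dig g (7 * i + 4) * rowN h 4 + dig g (7 * i + 5) * rowN h 5 +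
    dig g (7 * i + 6) * rowN h 6

/-- Reduction of a row. -/
def redRow (s : ℕ) : ℕ :=
  dig s 0 % 3 + dig s 1 % 3 * 64 + dig s 2 % 3 * 4096 + dig s 3 % 3 * 262144 + dig s 4 % 3 * 16777216 +
    dig s 5 % 3 * 1073741824 + dig s 6 % 3 * 68719476736

/-- The product. -/
def mulC (g h : ℕ) : ℕ :=
  redRow (combRow g h 0) + (redRow (combRow g h 1) <<< 42) + (redRow (combRow g h 2) <<< 84) +
    (redRow (combRow g h 3) <<< 126) + (redRow (combRow g h 4) <<< 168) + (redRow (combRow g h 5) <<< 210) +
    (redRow (combRow g h 6) <<< 252)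

/-- The entries are below three and nothing else is set. -/
def wf (n : ℕ) : Bool :=
  Nat.blt n (2 ^ 294) && (List.range 49).all fun k => Nat.blt (dig n k) 3

/-- The identity. -/
def oneC : ℕ := 2 ^ 0 + 2 ^ 48 + 2 ^ 96 + 2 ^ 144 + 2 ^ 192 + 2 ^ 240 + 2 ^ 288

/-- A root element. -/
def rootC (e : ℕ) : ℕ := roots.getD e 0

/-- The product of a word of root elements. -/
def rootWord (w : List ℕ) : ℕ := w.foldr (fun e c => mulC (rootC e) c) oneC

/-- An element of the Sylow subgroup. -/
def elC (a : ℕ) : ℕ := (elTab.getD (a / 100) 0 >>> (294 * (a % 100))) &&& (2 ^ 294 - 1)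

/-- Left multiplication of an index by a generator. -/
def ltA (i a : ℕ) : ℕ := (ltTab >>> (10 * (729 * i + a))) &&& 1023

/-- Right multiplication of an index by a generator. -/
def rtA (i a : ℕ) : ℕ := (rtTab >>> (10 * (729 * i + a))) &&& 1023

/-- The fibre part of left multiplication. -/
def lfA (i a : ℕ) : ℕ := (lfTab >>> (2 * (729 * i + a))) &&& 3

/-- The fibre part of right multiplication. -/
def rfA (i a : ℕ) : ℕ := (rfTab >>> (2 * (729 * i + a))) &&& 3

/-- Left action on a point. -/
def actL (i : ℕ) (p : ℕ × ℕ) : ℕ × ℕ := (ltA i p.1, (p.2 + lfA i p.1) % 3)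

/-- Right action on a point. -/
def actR (i : ℕ) (p : ℕ × ℕ) : ℕ × ℕ := (rtA i p.1, (p.2 + rfA i p.1) % 3)

/-- Left action of a word. -/
def actW (w : List ℕ) (p : ℕ × ℕ) : ℕ × ℕ := w.foldr actL p

/-- The word of an index. -/
def word (a : ℕ) : List ℕ := (List.range 6).flatMap fun k => List.replicate (a / 3 ^ k % 3) k

/-- A representative. -/
def rep (i : ℕ) : ℕ := (reps.getD (i / 100) 0 >>> (294 * (i % 100))) &&& (2 ^ 294 - 1)

/-- The parent of a representative. -/
def parent (j : ℕ) : ℕ := (parents.getD (j / 100) 0 >>> (15 * (j % 100))) &&& 32767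

/-- A table entry. -/
def entry (tbl : List ℕ) (i : ℕ) : ℕ := (tbl.getD (i / 100) 0 >>> (23 * (i % 100))) &&& 8388607

/-- The target of an entry. -/
def eJ (e : ℕ) : ℕ := e &&& 8191

/-- The element of an entry. -/
def eP (e : ℕ) : ℕ := (e >>> 13) &&& 1023

/-- The first element of the pair. -/
def pairU : ℕ := 23

/-- The second element of the pair. -/
def pairV : ℕ := 162

/-- Root elements and Sylow elements are well formed. -/
def okWf : Bool :=
  ((List.range 24).all fun e => wf (rootC e)) && (List.range 729).all fun a => wf (elC a)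

/-- The table of left multiplications is that of the elements. -/
def okLeft : Bool := (List.range 6).all fun i => (List.range 729).all fun a =>
  Nat.blt (ltA i a) 729 && Nat.blt (rtA i a) 729 && Nat.blt (lfA i a) 3 && Nat.blt (rfA i a) 3 &&
    Nat.beq (mulC (elC (3 ^ i)) (elC a)) (elC (ltA i a))

/-- The two actions commute. -/
def okComm : Bool := (List.range 6).all fun i => (List.range 6).all fun j => (List.range 729).all fun a =>
  let p := actR j (actL i (a, 0))
  let q := actL i (actR j (a, 0))
  Nat.beq p.1 q.1 && Nat.beq p.2 q.2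

/-- Appending the highest digit. -/
def okTop : Bool := (List.range 6).all fun k => (List.range (2 * 3 ^ k)).all fun a =>
  Nat.beq (rtA k a) (a + 3 ^ k) && Nat.beq (rfA k a) 0

/-- Nine left steps fix every point. -/
def okNine : Bool := (List.range 6).all fun i => (List.range 729).all fun a =>
  let p := actW (List.replicate 9 i) (a, 0)
  Nat.beq p.1 a && Nat.beq p.2 0

/-- The word of an index leads to it, and the translation word translates. -/
def okWord : Bool :=
  ((List.range 729).all fun a =>
    let p := actW (word a) (0, 0)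
    (word a).all (fun i => Nat.blt i 6) && Nat.beq p.1 a && Nat.beq p.2 0) &&
  transWord.all (fun i => Nat.blt i 6) && Nat.beq (actW transWord (0, 0)).1 0 &&
    Nat.beq (actW transWord (0, 0)).2 1

/-- Validity of an entry. -/
def okEntry (g i e : ℕ) : Bool :=
  Nat.blt (eJ e) 5824 && Nat.blt (eP e) 729 && Nat.beq (mulC g (rep i)) (mulC (rep (eJ e)) (elC (eP e)))

/-- Validity of a table. -/
def okTable (g : ℕ) (tbl : List ℕ) : Bool := (List.range 5824).all fun i => okEntry g i (entry tbl i)

/-- Each representative is a simple root element times an earlier one. -/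
def okParents : Bool := Nat.beq (rep 0) oneC && (List.range 5823).all fun k =>
  Nat.blt (parent (k + 1) / 4) (k + 1) &&
    Nat.beq (mulC (rootC (simp.getD (parent (k + 1) % 4) 0)) (rep (parent (k + 1) / 4))) (rep (k + 1))

/-- Both sides at a point of the pair. -/
def pairPts (t t' : List ℕ) (i : ℕ) : (ℕ × ℕ) × (ℕ × ℕ) :=
  let ey := entry t' i
  let exy := entry t (eJ ey)
  let ex := entry t i
  let eyx := entry t' (eJ ex)
  (actW (word (eP exy)) (eP ey, 0), actW (word (eP eyx)) (eP ex, 0))

/-- The commutator value at a point. -/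
def pairVal (t t' : List ℕ) (i : ℕ) : ℕ :=
  (pairPts t t' i).1.2 + 3 - (pairPts t t' i).2.2

/-- Validity of a pair with total one. -/
def okPair (t t' : List ℕ) : Bool :=
  ((List.range 5824).all fun i =>
    Nat.beq (pairPts t t' i).1.1 (pairPts t t' i).2.1 && Nat.ble (pairPts t t' i).2.2 3) &&
    Nat.beq (((List.range 5824).map (pairVal t t')).sum % 3) 1

end CfsgLib.G23Mult
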