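import Cfsg.Agent.SchurCert.Gen

set_option autoImplicit false

/-!
Certificate data for the multiplier of `G₂(3)`.
-/

namespace CfsgLib.G23Mult

/-- The certificate at 3. -/
def cert3 : SchurCert.GCert where
  p := 3
  n := 6
  rels := [
   ([0, 0, 0], []),
   ([1, 0], [0, 1, 3]),
   ([1, 1, 1], []),
   ([2, 0], [0, 2, 4]),
   ([2, 1], [1, 2]),
   ([2, 2, 2], []),
   ([3, 0], [0, 3, 4, 4]),
   ([3, 1], [1, 3, 5]),
   ([3, 2], [2, 3]),
   ([3, 3, 3], []),
   ([4, 0], [0, 4]),
   ([4, 1], [1, 4]),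
   ([4, 2], [2, 4]),
   ([4, 3], [3, 4]),
   ([4, 4, 4], []),
   ([5, 0], [0, 5]),
   ([5, 1], [1, 5]),
   ([5, 2], [2, 5]),
   ([5, 3], [3, 5]),
   ([5, 4], [4, 5]),
   ([5, 5, 5], []),
   ([6, 1, 1, 2, 2, 5], [1, 1, 2, 2, 5, 5, 6]),
   ([6, 2, 5], [1, 1, 2, 6]),
   ([6, 2, 2, 5, 5], [1, 2, 2, 6]),
   ([7, 2, 2, 3, 3, 5, 5], [0, 2, 2, 3, 3, 4, 5, 5, 7]),
   ([7, 2, 3, 4, 5], [0, 2, 3, 4, 4, 5, 7]),
   ([7, 4, 4], [0, 7]),
   ([8, 1, 2, 4], [3, 3, 5, 5, 8]),
   ([8, 1, 4, 5], [3, 3, 4, 8]),
   ([8, 1, 1, 5], [2, 3, 4, 4, 5, 5, 8])]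
  eqs := [
   ([6, 1, 1, 2, 2, 5, 2, 5], [(21, false, 0), (22, false, 6), (16, false, 5), (16, false, 4), (4, false, 3), (4, false, 2), (2, false, 0), (16, false, 3), (16, false, 2), (4, false, 1), (4, false, 0), (17, false, 4), (17, false, 3), (5, false, 1)], [(17, false, 5), (5, false, 3), (5, true, 3), (17, true, 5), (17, true, 4), (4, true, 2), (16, true, 3), (4, true, 1), (16, true, 2), (22, false, 0), (21, false, 3), (4, false, 2), (2, false, 0), (4, false, 0), (5, false, 1)]),
   ([6, 2, 2, 5, 5, 2, 2, 5, 5, 2, 2, 5, 5], [(23, false, 0), (23, false, 3), (23, false, 6), (4, false, 2), (4, false, 1), (5, false, 2), (4, false, 2), (2, false, 0), (5, false, 0)], [(17, false, 4), (17, false, 3), (5, false, 1), (17, false, 2), (17, false, 1), (20, false, 2), (17, false, 2), (17, false, 3), (5, false, 1), (20, false, 1)]),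
   ([7, 2, 2, 3, 3, 5, 5, 2, 3, 4, 5], [(24, false, 0), (25, false, 8), (15, false, 7), (15, false, 6), (10, false, 5), (6, false, 4), (6, false, 3), (3, false, 2), (3, false, 1), (12, false, 3), (13, false, 5), (13, false, 4), (14, false, 5), (13, false, 5), (14, false, 6), (17, false, 8), (17, false, 7), (12, false, 6), (8, false, 5), (8, false, 4), (5, false, 2), (18, false, 6), (18, false, 5), (13, false, 4), (9, false, 2), (19, false, 4), (19, false, 3), (19, false, 5), (19, false, 4), (14, false, 2), (20, false, 2)], [(17, false, 6), (17, false, 5), (8, false, 4), (8, false, 3), (5, false, 1), (18, false, 4), (18, false, 3), (9, false, 1), (19, false, 2), (19, false, 1), (20, false, 2), (20, true, 2), (9, true, 1), (13, true, 3), (18, true, 4), (13, true, 2), (18, true, 3), (5, true, 1), (8, true, 3), (12, true, 4), (17, true, 5), (8, true, 2), (12, true, 3), (17, true, 4), (25, false, 0), (24, false, 6), (15, false, 5), (10, false, 4), (10, false, 3), (6, false, 2), (3, false,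 1), (13, false, 3), (14, false, 4), (17, false, 6), (12, false, 5), (12, false, 4), (8, false, 3), (17, false, 7), (12, false, 6), (12, false, 5), (8, false, 4), (5, false, 2), (18, false, 5), (13, false, 4), (13, false, 3), (18, false, 6), (13, false, 5), (13, false, 4), (9, false, 2), (19, false, 4), (14, false, 2), (20, false, 2)]),
   ([7, 4, 4, 4, 4, 4, 4], [(26, false, 0), (26, false, 1), (26, false, 2), (0, false, 0)], [(14, false, 1), (14, false, 1)]),
   ([8, 1, 2, 4, 1, 4, 5], [(27, false, 0), (28, false, 4), (18, false, 3), (18, false, 2), (9, false, 0), (18, false, 1), (18, false, 0), (19, false, 2), (19, false, 1)], [(11, false, 3), (4, false, 2), (19, true, 5), (12, true, 3), (17, true, 4), (11, true, 2), (16, true, 3), (28, false, 0), (27, false, 3), (13, false, 2), (9, false, 0), (13, false, 0)]),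
   ([8, 1, 1, 5, 1, 1, 5, 1, 1, 5], [(29, false, 0), (29, false, 6), (29, false, 12), (17, false, 5), (17, false, 4), (12, false, 3), (12, false, 2), (8, false, 1), (18, false, 6), (18, false, 5), (13, false, 4), (13, false, 3), (19, false, 7), (19, false, 6), (14, false, 4), (19, false, 5), (19, false, 4), (20, false, 5), (17, false, 5), (12, false, 4), (8, false, 3), (8, false, 2), (5, false, 0), (18, false, 3), (13, false, 2), (9, false, 0), (19, false, 1), (19, false, 2), (14, false, 0), (20, false, 0)], [(16, false, 3), (2, false, 1), (16, false, 1), (16, false, 3), (16, false, 2), (16, false, 4), (16, false, 3), (2, false, 1), (20, false, 1)]),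
   ([1, 1, 1, 0], [(2, false, 0)], [(1, false, 2), (1, false, 1), (1, false, 0), (7, false, 2), (18, false, 4), (16, false, 5), (7, false, 4), (7, false, 3), (2, false, 1), (18, false, 2), (20, false, 3), (9, false, 1)]),
   ([1, 0, 0, 0], [(1, false, 0), (6, false, 2), (1, false, 1), (10, false, 6), (10, false, 5), (6, false, 4), (6, false, 3), (1, false, 2), (0, false, 0), (13, false, 4), (13, false, 3), (9, false, 1), (14, false, 1), (14, false, 1)], [(0, false, 1)]),
   ([2, 2, 2, 0], [(5, false, 0)], [(3, false, 2), (3, false, 1), (3, false, 0), (12, false, 2), (12, false, 4), (12, false, 3), (5, false, 1), (14, false, 1)]),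
   ([2, 0, 0, 0], [(3, false, 0), (10, false, 2), (3, false, 1), (10, false, 4), (10, false, 3), (3, false, 2), (0, false, 0), (14, false, 1)], [(0, false, 1)]),
   ([2, 1, 0], [(4, false, 0), (3, false, 1), (1, false, 0), (8, false, 2)], [(1, false, 1), (3, false, 0), (11, false, 2), (4, false, 1), (13, false, 3)]),
   ([2, 2, 2, 1], [(5, false, 0)], [(4, false, 2), (4, false, 1), (4, false, 0), (5, false, 1)]),
   ([3, 3, 3, 0], [(9, false, 0)], [(6, false, 2), (6, false, 1), (6, false, 0), (13, false, 3), (13, false, 2), (14, false, 3), (13, false, 3), (9, false, 1), (14, false, 1)]),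
   ([3, 0, 0, 0], [(6, false, 0), (10, false, 3), (10, false, 2), (6, false, 1), (14, false, 3), (10, false, 3), (6, false, 2), (0, false, 0), (14, false, 1)], [(0, false, 1)]),
   ([3, 1, 0], [(7, false, 0), (15, false, 2), (6, false, 1), (1, false, 0)], [(1, false, 1), (6, false, 0), (11, false, 3), (11, false, 2), (7, false, 1), (19, false, 3), (19, false, 4), (18, false, 5), (13, false, 4), (13, false, 3)]),
   ([3, 3, 3, 1], [(9, false, 0)], [(7, false, 2), (7, false, 1), (7, false, 0), (18, false, 2), (18, false, 4), (18, false, 3), (9, false, 1), (20, false, 1)]),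
   ([3, 1, 1, 1], [(7, false, 0), (16, false, 2), (7, false, 1), (16, false, 4), (16, false, 3), (7, false, 2), (2, false, 0), (20, false, 1)], [(2, false, 1)]),
   ([3, 2, 0], [(8, false, 0), (6, false, 1), (3, false, 0), (13, false, 2), (14, false, 3)], [(3, false, 1), (6, false, 0), (12, false, 3), (12, false, 2), (8, false, 1), (14, false, 3)]),
   ([3, 2, 1], [(8, false, 0), (7, false, 1), (4, false, 0)], [(4, false, 1), (7, false, 0), (17, false, 2), (8, false, 1)]),
   ([3, 3, 3, 2], [(9, false, 0)], [(8, false, 2), (8, false, 1), (8, false, 0), (9, false, 1)]),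
   ([4, 1, 0], [(11, false, 0), (10, false, 1), (1, false, 0)], [(1, false, 1), (10, false, 0), (11, false, 1), (13, false, 2)]),
   ([4, 3, 1], [(13, false, 0), (11, false, 1), (7, false, 0), (19, false, 2)], [(7, false, 1), (11, false, 0), (13, false, 1)]),
   ([5, 1, 0], [(16, false, 0), (15, false, 1), (1, false, 0)], [(1, false, 1), (15, false, 0), (16, false, 1), (18, false, 2)])]
  D := [[], [], [], [0, 1, 0, 0, 0, 0, 0, 0, 0, 0, 0, 0, 0, 0, 0, 0, 0, 0, 0, 0, 0], [0, 0, 0, 1, 0, 0, 0, 0, 0, 0, 0, 0, 0, 0, 0, 0, 0, 0, 0, 0, 0], [0, 0, 0, 0, 0, 0, 0, 1, 0, 0, 0, 0, 0, 0, 0, 0, 0, 0, 0, 0, 0]]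
  phi := [0, 0, 0, 0, 0, 0, 0, 0, 0, 0, 5, 7, 5, 0, 0, 0, 0, 0, 0, 0, 0, 0, 0, 0, 0, 0, 0, 0, 0, 0]
  sol := [
   (0, [(3, 1), (8, 1), (11, 2)]),
   (0, []),
   (0, [(1, 1), (11, 2), (15, 1)]),
   (0, []),
   (0, [(0, 1), (11, 2)]),
   (0, [(0, 1), (1, 2), (4, 1), (5, 1), (6, 1), (9, 1), (11, 1), (15, 2), (17, 2), (18, 1), (22, 2)]),
   (1, [(0, 1), (2, 1), (4, 1), (6, 1), (7, 1), (14, 2), (15, 2), (18, 1), (19, 2)]),
   (0, []),
   (1, [(0, 2), (4, 2), (6, 2), (7, 2), (8, 2), (9, 1), (10, 1), (15, 1), (17, 2), (18, 2), (19, 1), (20, 1), (22, 1)]),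
   (0, [(0, 2), (4, 2), (6, 2), (8, 2), (9, 2), (15, 1), (17, 1), (18, 2), (22, 1)]),
   (0, [(0, 2), (4, 2), (6, 2), (7, 2), (9, 2), (15, 1), (17, 1), (18, 2), (20, 1), (22, 1)]),
   (1, [(0, 2), (4, 2), (6, 2), (7, 2), (8, 2), (9, 1), (15, 1), (17, 2), (18, 2), (19, 1), (20, 2), (22, 1)]),
   (0, [(11, 2), (17, 1), (20, 1)]),
   (0, [(20, 2)]),
   (0, [(8, 2)]),
   (2, [(0, 1), (4, 1), (6, 1), (7, 1), (8, 1), (9, 2), (14, 1), (15, 2), (17, 1), (18, 1), (19, 1), (20, 2), (21, 2), (22, 1)]),
   (0, [(0, 1), (4, 1), (17, 2), (18, 1), (22, 1)]),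
   (0, [(18, 2)]),
   (0, [(22, 2)]),
   (0, [(21, 1)]),
   (0, [(8, 1), (9, 1), (15, 2)])]
  nf := (List.range 729).map fun a => (List.range 6).flatMap fun k => List.replicate (a / 3 ^ k % 3) k

/-- The certificate at 2. -/
def cert2 : SchurCert.GCert where
  p := 2
  n := 6
  rels := [
   ([0, 0], [4, 5]),
   ([1, 0], [0, 1, 3]),
   ([1, 1], [3, 4]),
   ([2, 0], [0, 2, 4]),
   ([2, 1], [1, 2, 3, 4]),
   ([2, 2], []),
   ([3, 0], [0, 3, 5]),
   ([3, 1], [1, 3]),
   ([3, 2], [2, 3, 5]),
   ([3, 3], [5]),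
   ([4, 0], [0, 4]),
   ([4, 1], [1, 4]),
   ([4, 2], [2, 4, 5]),
   ([4, 3], [3, 4]),
   ([4, 4], [5]),
   ([5, 0], [0, 5]),
   ([5, 1], [1, 5]),
   ([5, 2], [2, 5]),
   ([5, 3], [3, 5]),
   ([5, 4], [4, 5]),
   ([5, 5], []),
   ([6, 0, 2, 5], [4, 6]),
   ([6, 3, 5], [3, 6]),
   ([6, 0, 1], [0, 1, 3, 5, 6]),
   ([6, 1, 2, 3, 4], [0, 1, 3, 4, 5, 6]),
   ([6, 0, 1, 3, 4], [1, 2, 3, 4, 5, 6]),
   ([7, 1, 2, 3, 5], [0, 2, 3, 4, 7]),
   ([8, 2, 4, 5], [3, 4, 5, 8]),
   ([9, 2, 4, 5], [1, 2, 3, 4, 9]),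
   ([9, 3, 4, 5], [1, 2, 3, 4, 5, 9])]
  eqs := [
   ([6, 0, 2, 5, 3, 5], [(21, false, 0), (22, false, 1), (13, false, 0)], [(18, false, 3), (20, false, 4), (20, true, 4), (8, true, 2), (20, true, 3), (6, true, 1), (15, true, 2), (22, false, 0), (21, false, 1)]),
   ([6, 0, 1, 1, 2, 3, 4], [(23, false, 0), (24, false, 4), (15, false, 3), (6, false, 2), (1, false, 1), (0, false, 0), (16, false, 1), (11, false, 0), (18, false, 2), (13, false, 1), (18, false, 3), (13, false, 2), (9, false, 1), (19, false, 1), (20, false, 2), (20, false, 2), (11, false, 1), (2, false, 0), (14, false, 1), (18, false, 1), (9, false, 0), (20, false, 0)], [(2, false, 2), (12, false, 3), (8, false, 2), (19, false, 4), (20, false, 5), (13, false, 4), (9, false, 3), (19, false, 3), (19, false, 4), (14, false, 3), (20, false, 3), (20, true, 3), (14, true, 3), (19, true, 4), (19, true, 3), (9, true, 3), (13, true, 4), (20, true, 5), (19, true, 4), (8, true, 2), (12, true, 3), (2, true, 2), (4, true, 3), (20, true,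 4), (14, true, 4), (19, true, 5), (20, true, 5), (19, true, 4), (9, true, 4), (13, true, 5), (18, true, 6), (19, true, 5), (8, true, 3), (1, true, 1), (3, true, 2), (6, true, 3), (10, true, 4), (24, false, 0), (23, false, 5), (15, false, 4), (10, false, 3), (6, false, 2), (1, false, 1), (0, false, 0), (16, false, 1), (11, false, 0), (18, false, 2), (13, false, 1), (18, false, 3), (13, false, 2), (9, false, 1), (19, false, 1), (20, false, 2), (19, false, 2), (14, false, 1), (20, false, 1), (16, false, 1), (2, false, 0), (18, false, 2), (13, false, 1), (9, false, 0), (19, false, 0), (20, false, 1)]),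
   ([6, 0, 1, 3, 4, 0, 1, 3, 4], [(25, false, 0), (25, false, 5), (16, false, 4), (11, false, 3), (7, false, 2), (4, false, 1), (2, false, 0), (12, false, 1), (8, false, 0), (19, false, 2), (20, false, 3), (13, false, 2), (9, false, 1), (19, false, 1), (19, false, 2), (14, false, 1), (20, false, 1), (17, false, 3), (12, false, 2), (8, false, 1), (5, false, 0), (19, false, 1), (20, false, 2), (18, false, 2), (13, false, 1), (9, false, 0), (19, false, 0), (20, false, 1), (14, false, 0), (20, false, 0)], [(10, false, 4), (6, false, 3), (1, false, 2), (0, false, 1), (16, false, 2), (11, false, 1), (18, false, 3), (13, false, 2), (18, false, 4), (13, false, 3), (9, false, 2), (19, false, 2), (20, false, 3), (19, false, 3), (14, false, 2), (20, false, 2), (2, false, 1), (13, false, 2), (9, false, 1), (19, false, 1), (19, false, 2), (14, false, 1), (20, false, 1)]),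
   ([7, 1, 2, 3, 5, 1, 2, 3, 5], [(26, false, 0), (26, false, 4), (10, false, 3), (6, false, 2), (3, false, 1), (0, false, 0), (17, false, 1), (12, false, 0), (20, false, 2), (14, false, 1), (18, false, 1), (20, false, 2), (12, false, 2), (8, false, 1), (5, false, 0), (19, false, 1), (20, false, 2), (13, false, 1), (9, false, 0), (19, false, 0), (19, false, 1), (14, false, 0), (20, false, 0)], [(16, false, 4), (7, false, 3), (4, false, 2), (2, false, 1), (12, false, 2), (8, false, 1), (19, false, 3), (20, false, 4), (13, false, 3), (9, false, 2), (19, false, 2), (19, false, 3), (14, false, 2), (20, false, 2), (17, false, 3), (8, false, 2), (5, false, 1), (20, false, 2), (9, false, 1), (20, false, 1)]),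
   ([8, 2, 4, 5, 2, 4, 5], [(27, false, 0), (27, false, 3), (18, false, 2), (13, false, 1), (9, false, 0), (19, false, 0), (20, false, 1), (14, false, 0), (20, false, 0)], [(17, false, 3), (12, false, 2), (5, false, 1), (20, false, 2), (14, false, 1), (20, false, 1)]),
   ([9, 2, 4, 5, 3, 4, 5], [(28, false, 0), (29, false, 4), (11, false, 3), (7, false, 2), (4, false, 1), (2, false, 0), (12, false, 1), (8, false, 0), (19, false, 2), (20, false, 3), (13, false, 2), (9, false, 1), (19, false, 1), (19, false, 2), (14, false, 1), (20, false, 1), (12, false, 2), (8, false, 1), (5, false, 0), (19, false, 1), (20, false, 2), (13, false, 1), (9, false, 0), (19, false, 0), (19, false, 1), (14, false, 0), (20, false, 0)], [(18, false, 3), (13, false, 2), (19, false, 4), (14, false, 3), (20, false, 3), (20, true, 3), (14, true, 3), (19, true, 4), (20, true, 4), (19, true, 3), (8, true, 1), (12, true, 2), (17, true, 3), (29, false, 0), (28, false, 5), (16, false, 4), (11, false, 3), (7, false, 2),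 (4, false, 1), (2, false, 0), (12, false, 1), (8, false, 0), (19, false, 2), (20, false, 3), (13, false, 2), (9, false, 1), (19, false, 1), (19, false, 2), (14, false, 1), (20, false, 1), (17, false, 3), (12, false, 2), (8, false, 1), (5, false, 0), (19, false, 1), (20, false, 2), (18, false, 2), (13, false, 1), (9, false, 0), (19, false, 0), (20, false, 1), (14, false, 0)]),
   ([0, 0, 0], [(0, false, 0), (15, false, 1), (10, false, 0)], [(0, false, 1)]),
   ([1, 0, 0], [(1, false, 0), (6, false, 2), (1, false, 1), (0, false, 0), (16, false, 1), (11, false, 0), (18, false, 2), (13, false, 1), (18, false, 3), (13, false, 2), (9, false, 1), (19, false, 1), (20, false, 2)], [(0, false, 1)]),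
   ([1, 1, 0], [(2, false, 0), (10, false, 1), (6, false, 0), (19, false, 2)], [(1, false, 1), (1, false, 0), (7, false, 2), (2, false, 1), (13, false, 2), (9, false, 1), (19, false, 1), (18, false, 2), (13, false, 1)]),
   ([1, 1, 1], [(2, false, 0), (11, false, 1), (7, false, 0)], [(2, false, 1)]),
   ([2, 0, 0], [(3, false, 0), (10, false, 2), (3, false, 1), (0, false, 0), (17, false, 1), (12, false, 0), (20, false, 2), (14, false, 1), (19, false, 1)], [(0, false, 1)]),
   ([2, 1, 0], [(4, false, 0), (10, false, 3), (6, false, 2), (3, false, 1), (1, false, 0), (8, false, 2), (19, false, 4), (18, false, 5), (13, false, 4), (9, false, 3), (19, false, 3), (20, false, 4), (19, false, 4), (14, false, 3), (20, false, 3)], [(1, false, 1), (3, false, 0), (11, false, 2), (4, false, 1), (14, false, 4), (18, false, 4), (9, false, 3), (20, false, 3)]),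
   ([2, 1, 1], [(4, false, 0), (11, false, 3), (7, false, 2), (4, false, 1), (2, false, 0), (12, false, 1), (8, false, 0), (19, false, 2), (20, false, 3), (13, false, 2), (9, false, 1), (19, false, 1), (19, false, 2), (14, false, 1), (20, false, 1)], [(2, false, 1)]),
   ([2, 2, 0], [(5, false, 0)], [(3, false, 1), (3, false, 0), (12, false, 2), (5, false, 1), (19, false, 2), (14, false, 1), (20, false, 1)]),
   ([3, 0, 0], [(6, false, 0), (15, false, 2), (6, false, 1), (0, false, 0), (18, false, 1), (13, false, 0), (20, false, 2)], [(0, false, 1)]),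
   ([3, 1, 0], [(7, false, 0), (6, false, 1), (1, false, 0), (9, false, 2), (20, false, 2)], [(1, false, 1), (6, false, 0), (16, false, 2), (7, false, 1), (18, false, 3), (9, false, 2), (20, false, 2)]),
   ([3, 1, 1], [(7, false, 0), (7, false, 1), (2, false, 0), (13, false, 1), (9, false, 0), (19, false, 0)], [(2, false, 1), (9, false, 0), (19, false, 0)]),
   ([3, 2, 0], [(8, false, 0), (15, false, 2), (6, false, 1), (3, false, 0), (13, false, 2), (20, false, 4)], [(3, false, 1), (6, false, 0), (17, false, 2), (8, false, 1), (20, false, 3)]),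
   ([3, 2, 1], [(8, false, 0), (16, false, 2), (7, false, 1), (4, false, 0), (13, false, 3), (9, false, 2), (19, false, 2), (20, false, 3)], [(4, false, 1), (7, false, 0), (8, false, 1), (18, false, 3), (9, false, 2), (20, false, 2)]),
   ([3, 2, 2], [(8, false, 0), (17, false, 2), (8, false, 1), (5, false, 0), (20, false, 1)], [(5, false, 1)]),
   ([3, 3, 0], [(9, false, 0), (15, false, 0)], [(6, false, 1), (6, false, 0), (18, false, 2), (9, false, 1), (20, false, 1)]),
   ([4, 2, 0], [(12, false, 0), (15, false, 2), (10, false, 1), (3, false, 0), (14, false, 2), (20, false, 2)], [(3, false, 1), (10, false, 0), (12, false, 1), (19, false, 3), (14, false, 2), (20, false, 2)])]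
  D := [[], [], [], [0, 1, 0, 0, 0, 0, 0, 0, 0, 0, 0, 0, 0, 0, 0, 0, 0, 0, 0, 0, 0], [0, 0, 0, 1, 0, 0, 0, 0, 0, 0, 0, 0, 0, 0, 0, 0, 0, 0, 0, 0, 0], [0, 0, 0, 0, 0, 0, 1, 0, 0, 0, 0, 0, 0, 0, 0, 0, 0, 0, 0, 0, 0]]
  phi := [0, 0, 0, 0, 0, 0, 0, 0, 0, 0, 0, 0, 0, 0, 0, 0, 0, 0, 0, 0, 0, 0, 0, 0, 0, 0, 0, 0, 0, 0]
  sol := [
   (0, [(0, 1), (1, 1), (2, 1), (4, 1), (6, 1), (8, 1), (9, 1), (11, 1), (12, 1), (18, 1)]),
   (0, []),
   (0, [(2, 1), (3, 1), (4, 1), (5, 1), (6, 1), (8, 1), (10, 1), (11, 1), (12, 1), (13, 1), (17, 1)]),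
   (0, []),
   (0, [(1, 1), (5, 1), (6, 1), (8, 1), (9, 1), (13, 1), (15, 1), (18, 1), (21, 1)]),
   (0, [(4, 1), (5, 1), (9, 1), (12, 1), (13, 1), (15, 1), (17, 1), (21, 1)]),
   (0, []),
   (0, [(0, 1), (6, 1), (8, 1), (9, 1), (12, 1), (13, 1)]),
   (0, [(0, 1), (7, 1), (9, 1), (10, 1), (11, 1), (12, 1), (15, 1), (17, 1)]),
   (0, [(0, 1), (8, 1), (9, 1), (11, 1), (21, 1)]),
   (0, [(10, 1), (13, 1), (15, 1), (17, 1), (18, 1), (21, 1)]),
   (0, [(0, 1), (6, 1), (8, 1), (12, 1), (13, 1)]),
   (0, [(0, 1), (5, 1), (6, 1), (10, 1), (13, 1), (17, 1), (18, 1), (21, 1)]),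
   (0, [(6, 1), (10, 1), (13, 1), (17, 1)]),
   (0, [(0, 1), (5, 1), (6, 1), (7, 1), (8, 1), (9, 1), (13, 1)]),
   (0, [(6, 1), (10, 1), (13, 1), (15, 1), (17, 1), (18, 1), (21, 1)]),
   (0, [(6, 1), (8, 1), (10, 1), (11, 1), (12, 1), (17, 1), (18, 1)]),
   (0, [(15, 1), (17, 1), (18, 1), (21, 1)]),
   (0, [(6, 1), (8, 1), (10, 1), (11, 1), (12, 1), (15, 1), (17, 1), (18, 1)]),
   (0, [(6, 1), (10, 1), (13, 1), (15, 1), (17, 1), (18, 1)]),
   (0, [(6, 1), (7, 1), (8, 1), (9, 1), (15, 1), (21, 1)])]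
  nf := (List.range 64).map fun a => (List.range 6).flatMap fun k => List.replicate (a / 2 ^ k % 2) k

/-- Three times the form modulo nine. -/
def nine : List (ℕ × ℕ) := [(0, 6), (2, 3), (4, 6), (6, 6), (7, 6), (8, 8), (9, 1), (11, 6), (12, 4), (14, 6), (15, 3), (17, 3), (18, 6), (19, 3), (22, 6)]

end CfsgLib.G23Mult
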