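import Cfsg.Agent.G23Mult.Checks
import Cfsg.Agent.G23Mult.Roots
import Cfsg.Agent.S1059

set_option autoImplicit false
set_option maxRecDepth 100000

/-!
The packed matrices in the group, and its Sylow 3-subgroup on indices.
-/

namespace CfsgLib.G23Mult

open Cfsg.Lie Matrix CfsgLib.G2Three

theorem card_G3 : Nat.card G3 = 4245696 := by
  rw [Cfsg.Agent.S1059.result (F := ZMod 3) (ZMod.card 3)]
  norm_num

theorem finite_G3 : Finite G3 := Nat.finite_of_card_ne_zero (by rw [card_G3]; norm_num)

/-- The code is that of an element of the group. -/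
structure Good (n : ℕ) : Prop where
  /-- the code is well formed -/
  wfn : wf n = true
  /-- it is attained -/
  att : ∃ x : G3, rho x = toM n

open scoped Classical in
/-- The element with a given code, or the identity. -/
noncomputable def elc (n : ℕ) : G3 :=
  if h : ∃ x : G3, rho x = toM n then h.choose else 1

theorem rho_elc {n : ℕ} (h : Good n) : rho (elc n) = toM n := by
  rw [elc, dif_pos h.att]; exact h.att.choose_spec

theorem elc_eq {n : ℕ} (h : Good n) {x : G3} (hx : rho x = toM n) : elc n = x :=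
  rho_injective (by rw [rho_elc h, hx])

theorem good_mul {g h : ℕ} (hg : Good g) (hh : Good h) : Good (mulC g h) :=
  ⟨mulC_wf g h, elc g * elc h, by rw [map_mul, rho_elc hg, rho_elc hh, toM_mul hg.wfn hh.wfn]⟩

theorem elc_mulC {g h : ℕ} (hg : Good g) (hh : Good h) : elc g * elc h = elc (mulC g h) :=
  (elc_eq (good_mul hg hh) (by rw [map_mul, rho_elc hg, rho_elc hh, toM_mul hg.wfn hh.wfn])).symm

theorem elc_inj {g h : ℕ} (hg : Good g) (hh : Good h) (e : elc g = elc h) : g = h :=
  toM_inj hg.wfn hh.wfn (by rw [← rho_elc hg, ← rho_elc hh, e])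

theorem wf_oneC : wf oneC = true := by decide +kernel

theorem good_one : Good oneC := ⟨wf_oneC, 1, by rw [map_one, toM_oneC]⟩

theorem elc_one : elc oneC = 1 := elc_eq good_one (by rw [map_one, toM_oneC])

theorem good_root {e : ℕ} (he : e < 24) : Good (rootC e) := by
  have h := wf_ok
  simp only [okWf, Bool.and_eq_true, List.all_eq_true, List.mem_range] at h
  exact ⟨h.1 e he, exists_root he⟩

theorem rootWord_nil : rootWord [] = oneC := by rw [rootWord, List.foldr_nil]

theorem rootWord_cons (e : ℕ) (r : List ℕ) : rootWord (e :: r) = mulC (rootC e) (rootWord r) := by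
  rw [rootWord, rootWord, List.foldr_cons]

theorem good_rootWord (w : List ℕ) (h : ∀ e ∈ w, e < 24) : Good (rootWord w) := by
  induction w with
  | nil => rw [rootWord_nil]; exact good_one
  | cons e r ih =>
    rw [rootWord_cons]
    exact good_mul (good_root (h e List.mem_cons_self)) (ih fun x hx => h x (List.mem_cons_of_mem _ hx))

/-- The generators of the Sylow subgroup are words of root elements. -/
def gensOk3 : Bool := (List.range 6).all fun i =>
  (words3.getD i []).all (fun e => Nat.blt e 24) && Nat.beq (rootWord (words3.getD i [])) (elC (3 ^ i))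

theorem gens_ok3 : gensOk3 = true ∧ elC 0 = oneC := by decide +kernel

theorem good_gen {i : ℕ} (hi : i < 6) : Good (elC (3 ^ i)) := by
  have h := gens_ok3.1
  simp only [gensOk3, List.all_eq_true, List.mem_range, Bool.and_eq_true, Nat.blt_eq, Nat.beq_eq] at h
  obtain ⟨h1, h2⟩ := h i hi
  exact h2 ▸ good_rootWord _ h1

theorem left_spec {i a : ℕ} (hi : i < 6) (ha : a < 729) :
    ltA i a < 729 ∧ rtA i a < 729 ∧ lfA i a < 3 ∧ rfA i a < 3 ∧
      mulC (elC (3 ^ i)) (elC a) = elC (ltA i a) := by
  have h := left_ok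
  simp only [okLeft, List.all_eq_true, List.mem_range, Bool.and_eq_true, Nat.blt_eq, Nat.beq_eq] at h
  obtain ⟨⟨⟨⟨h1, h2⟩, h3⟩, h4⟩, h5⟩ := h i hi a ha
  exact ⟨h1, h2, h3, h4, h5⟩

theorem word_spec {a : ℕ} (ha : a < 729) : (∀ i ∈ word a, i < 6) ∧ actW (word a) (0, 0) = (a, 0) := by
  have h := word_ok
  simp only [okWord, Bool.and_eq_true, List.all_eq_true, List.mem_range, Nat.blt_eq, Nat.beq_eq] at h
  obtain ⟨⟨h1, h2⟩, h3⟩ := h.1.1.1 a ha
  exact ⟨h1, Prod.ext h2 h3⟩

theorem actW_lt : ∀ (w : List ℕ), (∀ i ∈ w, i < 6) → ∀ p : ℕ × ℕ, p.1 < 729 → p.2 < 3 →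
    (actW w p).1 < 729 ∧ (actW w p).2 < 3
  | [], _, p, hp, hp' => ⟨hp, hp'⟩
  | i :: r, h, p, hp, hp' => by
    obtain ⟨h1, -⟩ := actW_lt r (fun x hx => h x (List.mem_cons_of_mem _ hx)) p hp hp'
    exact ⟨(left_spec (h i List.mem_cons_self) h1).1, Nat.mod_lt _ (by norm_num)⟩

theorem good_el {a : ℕ} (ha : a < 729) : Good (elC a) := by
  have key : ∀ w : List ℕ, (∀ i ∈ w, i < 6) → Good (elC (actW w (0, 0)).1) := by
    intro w
    induction w with
    | nil => intro _; exact (gens_ok3.2.symm ▸ good_one :)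
    | cons i r ih =>
      intro h
      have hr : ∀ x ∈ r, x < 6 := fun x hx => h x (List.mem_cons_of_mem _ hx)
      obtain ⟨h1, -⟩ := actW_lt r hr (0, 0) (by norm_num) (by norm_num)
      have h2 := (left_spec (h i List.mem_cons_self) h1).2.2.2.2
      exact h2 ▸ good_mul (good_gen (h i List.mem_cons_self)) (ih hr)
  have h := key _ (word_spec ha).1
  rwa [(word_spec ha).2] at h

theorem el_mul_left {i a : ℕ} (hi : i < 6) (ha : a < 729) :
    elc (elC (ltA i a)) = elc (elC (3 ^ i)) * elc (elC a) := by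
  rw [elc_mulC (good_gen hi) (good_el ha), (left_spec hi ha).2.2.2.2]

theorem el_zero : elc (elC 0) = 1 := by rw [gens_ok3.2, elc_one]

/-- The key of a code: six separating entries. -/
def elKey (n : ℕ) : ℕ := dig n 4 + dig n 5 * 3 + dig n 6 * 9 + dig n 11 * 27 + dig n 12 * 81 + dig n 17 * 243

/-- The indices by key. -/
def keyTab : ℕ :=
  0x25f81839178a78a0949c93e1567bb048b83ce4958b078190a7d7d209916195a4958f6655b99ec28cd62a9dc71e2d46d523ae549811ab884273293734a9532cc03945f3244c399a14916d2dd0903a8b46c17175003bd5910d768e9ea1c5f24b5eb7ee05b0de95b11387e44a35359e97f12e3b621ce9c51cb2963a58ed275ac22a682789319c32270a61a17473d401bdb43525e784c20c1c6159112e12e836b0112b868ab1a9acb916af8cacc2b8311ea9d059f4660287f643036d519a2920d473de573fc3a3e108449d03d8790812c5459a10987232315209536d7e0a5d71c1a3b4e832e6705d6849e64d86282a324e204dc13655306ba5aceeaa21634e3c07a9e0ed1a6f62a714af6f9b3761526f13f7669485e606a9fc404a58390a541f378a4c4da69150045900c880050541f3740325d9d0f16f9d62b551165056647ec452da639c8e9f9e39419460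1930d5899acbc64aaa1426a2a5ca594df1ac7b2ec59498f10fa07af1b80a9db338d53364830da58b4cc4326369235044ba86acfa3a2cb60608466c5710306a3d089ee7d5ed74dfe0f5677b27d2aa221f1824e06108c4e1cc2c744582cecd9d18b3c15d2848d2821b25978a889f6de365de8f35c72b1651986a18fc33b5e24451c9316103a2b4aeeb3556a92c93aac8195c0b1509f7a81277719b4e5e59191e5e4690420052a083ed023e8e042e231d0f962a904be6223c4591e098d259848de8fa9976981262d61aa879ce864a27c215afa14c450c84672bd961d25796e6b94c865e44c42135aab476ce705c8700626da9811dbf7fc7da5c4f411ad0d0e92a0463c9530ac8693df6434574540803c07b18184c25a01a419bc362441d89476a293b22293af86d9e0e18e026775728557a191a960d8d6398c731c4992a492d5fa253d1d6b64ad20a6db2805de8e4242b14f33ec8104bd31cc83182e02d9e419d62d13c1de883f4801693305156095df8de1d369ef43e547e1e77a1e65397c8727780d32971971226e681cb94d85b1d45830ea1fd2221e4a2d8902689b264d9345716c5581b19612a5b70c380b5a82fd0e3ad4682a92172b575627a8eadabaac851f12ac1338e9a1265d6540a99a40101fa18e0b3b1444aac03f01c585053d0f53cc5b22529611100fd692922e5ecad36160249d414919b42650be6d55e9c9da80a067fafeb71f8be1965228e305a0d087a132d6a506ed114d1767e42708e24d1b06e9bb6e5213fa917e6c969e2f5a8a27c1735362641e49462d214437734098086e0480100800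

theorem key_ok : ((List.range 729).all fun a =>
    Nat.beq ((keyTab >>> (10 * elKey (elC a))) &&& 1023) a) = true := by decide +kernel

theorem el_inj {a b : ℕ} (ha : a < 729) (hb : b < 729) (e : elc (elC a) = elc (elC b)) : a = b := by
  have h := key_ok
  simp only [List.all_eq_true, List.mem_range, Nat.beq_eq] at h
  rw [← h a ha, ← h b hb, elc_inj (good_el ha) (good_el hb) e]

end CfsgLib.G23Mult
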